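import Cfsg.Agent.Lib.TIKernel.Basic
import Cfsg.Agent.Lib.CharInt.TI
import Cfsg.Agent.Lib.Char.Isometry
import Cfsg.Agent.Lib.Char.PRegular
import Cfsg.Prelude.Def_OddOrderChar

/-!
# The coherent isometry attached to a TI subgroup containing the centralisers of its non-trivial elements
-/

namespace Cfsg.Agent.TIKernel

open scoped ComplexConjugate
open Cfsg Cfsg.Agent.Char

universe u

variable {G : Type u} [Group G] [Fintype G] {K : Subgroup G}

instance normal_subgroupOf_normalizer : (K.subgroupOf (Subgroup.normalizer (K : Set G))).Normal :=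
  Subgroup.normal_in_normalizer

theorem cent_le (hC : ∀ k ∈ K, k ≠ 1 → Subgroup.centralizer ({k} : Set G) ≤ K) :
    ∀ k ∈ K.subgroupOf (Subgroup.normalizer (K : Set G)), k ≠ 1 →
      ∀ x, x * k = k * x → x ∈ K.subgroupOf (Subgroup.normalizer (K : Set G)) := by
  intro k hk hk1 x hx
  refine hC k hk (fun e => hk1 (Subtype.ext e)) (Subgroup.mem_centralizer_singleton_iff.2 ?_)
  have e := congrArg Subtype.val hx
  first
    | simpa using e
    | simpa using e.symm

variable [Fintype (Subgroup.normalizer (K : Set G))]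
  {S : Set ((Subgroup.normalizer (K : Set G)) → ℂ)}
  {star : ((Subgroup.normalizer (K : Set G)) → ℂ) → (G → ℂ)}

theorem mem_S_iff
    (hS : S = {χ | IsIrrCharacter (Subgroup.normalizer (K : Set G)) χ ∧
      ∃ k : Subgroup.normalizer (K : Set G), (k : G) ∈ K ∧ χ k ≠ χ 1})
    (χ : IrrCharacter (Subgroup.normalizer (K : Set G))) :
    χ.1 ∈ S ↔ χ ∈ nonTriv (K.subgroupOf (Subgroup.normalizer (K : Set G))) := by
  rw [hS, mem_nonTriv]
  simp only [Set.mem_ofPred_eq, TrivOn, Subgroup.mem_subgroupOf]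
  exact ⟨fun ⟨_, k, hk, hne⟩ h => hne (h k hk), fun h => ⟨χ.2, by push Not at h; exact h⟩⟩

/-- `ξ(1) χ - χ(1) ξ` with natural number coefficients. -/
noncomputable def alpha {L : Type u} [Group L] (χ ξ : IrrCharacter L) : L → ℂ :=
  (degree ξ : ℤ) • χ.1 - (degree χ : ℤ) • ξ.1

theorem alpha_apply {L : Type u} [Group L] (χ ξ : IrrCharacter L) (x : L) :
    alpha χ ξ x = ξ.1 1 * χ.1 x - χ.1 1 * ξ.1 x := by
  simp [alpha, apply_one_eq_degree]

theorem classInner_alpha {L : Type u} [Group L] [Fintype L] (f : L → ℂ) (χ ξ : IrrCharacter L) :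
    classInner f (alpha χ ξ) = ξ.1 1 * classInner f χ.1 - χ.1 1 * classInner f ξ.1 := by
  rw [alpha, classInner_sub_right, classInner_zsmul_right, classInner_zsmul_right]
  simp [apply_one_eq_degree]

variable (hS : S = {χ | IsIrrCharacter (Subgroup.normalizer (K : Set G)) χ ∧
      ∃ k : Subgroup.normalizer (K : Set G), (k : G) ∈ K ∧ χ k ≠ χ 1})
  (hstar : IsLinearIsometryOn (zspan S) star)
  (hext : ∀ α ∈ zspanOn S ({1}ᶜ : Set (Subgroup.normalizer (K : Set G))),
    star α = indFun (Subgroup.normalizer (K : Set G)) α)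

include hS in
theorem alpha_mem {χ ξ : IrrCharacter (Subgroup.normalizer (K : Set G))}
    (hχ : χ ∈ nonTriv (K.subgroupOf _)) (hξ : ξ ∈ nonTriv (K.subgroupOf _)) :
    alpha χ ξ ∈ zspanOn S ({1}ᶜ : Set (Subgroup.normalizer (K : Set G))) :=
  mem_zspanOn_compl_one.2 ⟨Submodule.sub_mem _
    (Submodule.smul_mem _ _ (Submodule.subset_span ((mem_S_iff hS χ).2 hχ)))
    (Submodule.smul_mem _ _ (Submodule.subset_span ((mem_S_iff hS ξ).2 hξ))),
    by rw [alpha_apply]; ring⟩

include hS hstar hext in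
theorem indFun_alpha {χ ξ : IrrCharacter (Subgroup.normalizer (K : Set G))}
    (hχ : χ ∈ nonTriv (K.subgroupOf _)) (hξ : ξ ∈ nonTriv (K.subgroupOf _)) :
    indFun (Subgroup.normalizer (K : Set G)) (alpha χ ξ) = ξ.1 1 • star χ.1 - χ.1 1 • star ξ.1 := by
  have h1 : χ.1 ∈ Submodule.span ℤ S := Submodule.subset_span ((mem_S_iff hS χ).2 hχ)
  have h2 : ξ.1 ∈ Submodule.span ℤ S := Submodule.subset_span ((mem_S_iff hS ξ).2 hξ)
  rw [← hext _ (alpha_mem hS hχ hξ), alpha,
    iso_map_sub (E := Submodule.span ℤ S) hstar (Submodule.smul_mem _ _ h1) (Submodule.smul_mem _ _ h2),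
    hstar.2.1 _ h1, hstar.2.1 _ h2]
  funext g
  simp [apply_one_eq_degree]

include hS hstar hext in
/-- Orthogonality of a restriction with the degree zero combinations, read in `G`. -/
theorem classInner_res {Θ : G → ℂ} (hΘ : IsClassFunction G Θ)
    {χ ξ : IrrCharacter (Subgroup.normalizer (K : Set G))}
    (hχ : χ ∈ nonTriv (K.subgroupOf _)) (hξ : ξ ∈ nonTriv (K.subgroupOf _)) :
    ξ.1 1 * classInner (fun x : Subgroup.normalizer (K : Set G) => Θ x) χ.1 -
        χ.1 1 * classInner (fun x : Subgroup.normalizer (K : Set G) => Θ x) ξ.1 =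
      ξ.1 1 * classInner Θ (star χ.1) - χ.1 1 * classInner Θ (star ξ.1) := by
  rw [← classInner_alpha, ← classInner_indFun_right _ _ hΘ, indFun_alpha hS hstar hext hχ hξ,
    classInner_sub_right, classInner_smul_right, classInner_smul_right]
  simp [apply_one_eq_degree]

include hS hstar hext in
theorem res_sub_const {η : IrrCharacter (Subgroup.normalizer (K : Set G))}
    (hη : η ∈ nonTriv (K.subgroupOf _)) :
    ∃ a : ℂ, ∀ k : Subgroup.normalizer (K : Set G), (k : G) ∈ K → k ≠ 1 → star η.1 k - η.1 k = a := by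
  have hg : IsGeneralizedCharacter G (star η.1) :=
    hstar.2.2.2 _ (Submodule.subset_span ((mem_S_iff hS η).2 hη))
  have hc := IsGeneralizedCharacter.isClassFunction hg
  have hcl : IsClassFunction (Subgroup.normalizer (K : Set G))
      ((fun x : Subgroup.normalizer (K : Set G) => star η.1 x) - η.1) :=
    IsGeneralizedCharacter.isClassFunction
      (IsGeneralizedCharacter.sub (IsGeneralizedCharacter.restrict hg _) (irr_isGeneralized η))
  refine exists_const hcl (N := K.subgroupOf _) fun χ hχ ξ hξ => ?_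
  have e := classInner_res hS hstar hext hc hχ hξ
  have i1 := hstar.2.2.1 η.1 (Submodule.subset_span ((mem_S_iff hS η).2 hη)) χ.1
    (Submodule.subset_span ((mem_S_iff hS χ).2 hχ))
  have i2 := hstar.2.2.1 η.1 (Submodule.subset_span ((mem_S_iff hS η).2 hη)) ξ.1
    (Submodule.subset_span ((mem_S_iff hS ξ).2 hξ))
  rw [i1, i2] at e
  have hsub : ∀ φ, classInner ((fun x : Subgroup.normalizer (K : Set G) => star η.1 x) - η.1) φ =
      classInner (fun x : Subgroup.normalizer (K : Set G) => star η.1 x) φ - classInner η.1 φ :=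
    fun φ => classInner_sub_left _ _ _
  refine Eq.trans (congrArg (· * ξ.1 1) (hsub χ.1)) (Eq.trans ?_ (congrArg (· * χ.1 1) (hsub ξ.1)).symm)
  linear_combination e

include hS hstar hext in
theorem irr_iff (hC : ∀ k ∈ K, k ≠ 1 → Subgroup.centralizer ({k} : Set G) ≤ K)
    (htwo : ∃ χ ∈ S, ∃ ξ ∈ S, χ ≠ ξ) {ψ : G → ℂ} (hψ : IsIrrCharacter G ψ) :
    (∃ χ ∈ S, ψ = star χ ∨ ψ = -star χ) ↔ ∃ a ∈ K, ∃ b ∈ K, a ≠ 1 ∧ b ≠ 1 ∧ ψ a ≠ ψ b := by
  have hmk : ∀ x ∈ S, ∃ η : IrrCharacter (Subgroup.normalizer (K : Set G)),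
      η.1 = x ∧ η ∈ nonTriv (K.subgroupOf _) := fun x hx =>
    ⟨⟨x, (hS ▸ hx).1⟩, rfl, (mem_S_iff hS _).1 hx⟩
  constructor
  · rintro ⟨x, hx, hpm⟩
    obtain ⟨η, rfl, hη⟩ := hmk x hx
    by_contra hcon
    push Not at hcon
    obtain ⟨x, hxS, y, hyS, hxy⟩ := htwo
    obtain ⟨ξ, hξ, hne⟩ : ∃ ξ ∈ nonTriv (K.subgroupOf (Subgroup.normalizer (K : Set G))), η ≠ ξ := by
      obtain ⟨χ₁, rfl, h1⟩ := hmk x hxS
      obtain ⟨χ₂, rfl, h2⟩ := hmk y hyS
      by_cases h : η = χ₁
      · exact ⟨χ₂, h2, fun e => hxy (by rw [← h, e])⟩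
      · exact ⟨χ₁, h1, h⟩
    obtain ⟨a, ha, b, hb, ha1, hb1, hab⟩ := not_const (cent_le hC) hη hξ hne
    obtain ⟨c, hc⟩ := res_sub_const hS hstar hext hη
    have e1 := hcon a ha b hb (fun e => ha1 (Subtype.ext e)) (fun e => hb1 (Subtype.ext e))
    have e2 := (hc a ha ha1).trans (hc b hb hb1).symm
    rcases hpm with h | h <;> rw [h] at e1 <;> (try simp only [Pi.neg_apply, neg_inj] at e1) <;>
      exact hab (by linear_combination e1 - e2)
  · intro hne
    by_contra hcon
    push Not at hcon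
    have horth : ∀ χ ∈ nonTriv (K.subgroupOf (Subgroup.normalizer (K : Set G))),
        classInner ψ (star χ.1) = 0 := fun χ hχ => by
      obtain ⟨f, e, he, hf⟩ := exists_irr_image hstar ((mem_S_iff hS χ).2 hχ) χ.2
      obtain ⟨h1, h2⟩ := hcon _ ((mem_S_iff hS χ).2 hχ)
      rw [hf, classInner_smul_right, classInner_irr_of_ne hψ f.2, mul_zero]
      rintro rfl
      rcases he with rfl | rfl
      · exact h1 (by rw [hf, one_smul])
      · exact h2 (by rw [hf, neg_one_smul, neg_neg])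
    have hc := IsCharacter.isClassFunction (IsIrrCharacter.isCharacter hψ)
    obtain ⟨c, hc'⟩ := exists_const (N := K.subgroupOf (Subgroup.normalizer (K : Set G)))
      (f := fun x : Subgroup.normalizer (K : Set G) => ψ x)
      (IsCharacter.isClassFunction (IsCharacter.restrict (IsIrrCharacter.isCharacter hψ) _))
      fun χ hχ ξ hξ => by
        have e := classInner_res hS hstar hext hc hχ hξ
        rw [horth χ hχ, horth ξ hξ] at e
        linear_combination e
    obtain ⟨a, ha, b, hb, ha1, hb1, hab⟩ := hne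
    have hle := Subgroup.le_normalizer (H := K)
    exact hab ((hc' ⟨a, hle ha⟩ ha (fun e => ha1 (congrArg Subtype.val e))).trans
      (hc' ⟨b, hle hb⟩ hb (fun e => hb1 (congrArg Subtype.val e))).symm)

include hS hstar hext in
theorem exists_shift
    (hTI : ∀ g : G, g ∉ Subgroup.normalizer (K : Set G) → ∀ k ∈ K, g * k * g⁻¹ ∈ K → k = 1)
    (hC : ∀ k ∈ K, k ≠ 1 → Subgroup.centralizer ({k} : Set G) ≤ K) :
    ∃ m : ℤ, ∀ χ ∈ S, ∀ k : Subgroup.normalizer (K : Set G), (k : G) ∈ K → k ≠ 1 →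
      star χ k - χ k = (m : ℂ) * χ 1 / ((K.subgroupOf (Subgroup.normalizer (K : Set G))).index : ℂ) := by
  classical
  have hres := fun (χ : IrrCharacter (Subgroup.normalizer (K : Set G)))
    (hχ : χ ∈ nonTriv (K.subgroupOf (Subgroup.normalizer (K : Set G)))) =>
    res_sub_const (η := χ) hS hstar hext hχ
  set N := K.subgroupOf (Subgroup.normalizer (K : Set G)) with hNdef
  rcases (nonTriv N).eq_empty_or_nonempty with he | ⟨η, hη⟩
  · refine ⟨0, fun x hx => absurd ((mem_S_iff hS ⟨x, (hS ▸ hx).1⟩).1 hx) ?_⟩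
    simp [N, he]
  choose! a ha using hres
  obtain ⟨k₀, hk₀, hk₀1⟩ : ∃ k ∈ N, k ≠ 1 := by
    by_contra h
    push Not at h
    exact mem_nonTriv.1 hη fun k hk => by rw [h k hk]
  -- proportionality
  have hprop : ∀ χ ∈ nonTriv N, ∀ ξ ∈ nonTriv N, ξ.1 1 * a χ = χ.1 1 * a ξ := by
    intro χ hχ ξ hξ
    have hsupp : ∀ x : (Subgroup.normalizer (K : Set G)), (x : G) ∉ {g : G | g ∈ K ∧ g ≠ 1} → alpha χ ξ x = 0 := by
      intro x hx
      rw [alpha_apply]
      by_cases hxN : x ∈ N
      · have : x = 1 := by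
          by_contra h
          exact hx ⟨hxN, fun e => h (Subtype.ext e)⟩
        subst this; ring
      · rw [vanish (cent_le hC) χ hχ hxN, vanish (cent_le hC) ξ hξ hxN]; ring
    have hcl : IsClassFunction (Subgroup.normalizer (K : Set G)) (alpha χ ξ) := fun g h => by
      rw [alpha_apply, alpha_apply, IsCharacter.isClassFunction (irr_isCharacter χ) g h,
        IsCharacter.isClassFunction (irr_isCharacter ξ) g h]
    have e := CharInt.indFun_eq_of_ti (S := {g : G | g ∈ K ∧ g ≠ 1}) (t := k₀) (fun g s hs hg => by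
      by_contra hgL
      have h1 := hTI g⁻¹ (fun h => hgL (by simpa using (Subgroup.normalizer (K : Set G)).inv_mem h)) s hs.1 (by simpa using hg.1)
      exact hs.2 h1) hcl hsupp ⟨hk₀, fun e => hk₀1 (Subtype.ext e)⟩
    rw [indFun_alpha hS hstar hext hχ hξ, alpha_apply] at e
    simp only [Pi.sub_apply, Pi.smul_apply, smul_eq_mul] at e
    linear_combination e - ξ.1 1 * ha χ hχ k₀ hk₀ hk₀1 + χ.1 1 * ha ξ hξ k₀ hk₀ hk₀1
  set m : ℂ := a η * (N.index : ℂ) / η.1 1 with hm
  have hη1 : η.1 1 ≠ 0 := IsIrrCharacter.apply_one_ne_zero η.2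
  have hidx : (N.index : ℂ) ≠ 0 := Nat.cast_ne_zero.2 Subgroup.index_ne_zero_of_finite
  have ham : ∀ χ ∈ nonTriv N, a χ = m * χ.1 1 / (N.index : ℂ) := by
    intro χ hχ
    rw [hm]
    field_simp
    linear_combination hprop χ hχ η hη
  -- `m` is an algebraic integer
  have hint : IsIntegral ℤ m := by
    have h := sum_degree_mul (N := N) hk₀ hk₀1
    have e : m = -∑ χ ∈ nonTriv N, a χ * χ.1 k₀ := by
      rw [Finset.sum_congr rfl fun χ hχ => by rw [ham χ hχ, mul_div_right_comm, mul_assoc],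
        ← Finset.mul_sum, h]
      field_simp
    rw [e]
    refine (IsIntegral.sum _ fun χ hχ => IsIntegral.mul ?_ (CharInt.isIntegral_char (irr_isCharacter χ) _)).neg
    rw [← ha χ hχ k₀ hk₀ hk₀1]
    exact (CharInt.isIntegral_genChar (hstar.2.2.2 _ (Submodule.subset_span ((mem_S_iff hS χ).2 hχ))) _).sub
      (CharInt.isIntegral_char (irr_isCharacter χ) _)
  -- and rational
  obtain ⟨c, d, hd, hcd⟩ : ∃ c d : ℤ, d ≠ 0 ∧ (d : ℂ) * m = c := by
    let θ : (Subgroup.normalizer (K : Set G)) → ℂ := (fun x : (Subgroup.normalizer (K : Set G)) => star η.1 x) - η.1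
    have hθ : IsGeneralizedCharacter (Subgroup.normalizer (K : Set G)) θ := IsGeneralizedCharacter.sub
      (IsGeneralizedCharacter.restrict (hstar.2.2.2 _ (Submodule.subset_span ((mem_S_iff hS η).2 hη))) _)
      (irr_isGeneralized η)
    obtain ⟨z₁, hz₁⟩ := IsGeneralizedCharacter.exists_int_apply_one hθ
    obtain ⟨z, hz⟩ := IsGeneralizedCharacter.exists_int_classInner
      (IsGeneralizedCharacter.restrict hθ N) (irr_isGeneralized (trivialChar N))
    have hb : ∀ x : N, x ≠ 1 → θ x = a η := fun x hx => ha η hη x.1 x.2 (fun e => hx (Subtype.ext e))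
    have hsum : ∑ x : N, θ x = θ 1 + (((Nat.card N : ℤ) - 1 : ℤ) : ℂ) * a η := by
      rw [← Finset.add_sum_erase _ _ (Finset.mem_univ (1 : N)),
        Finset.sum_congr rfl (fun x hx => hb x (Finset.ne_of_mem_erase hx)),
        Finset.sum_const, Finset.card_erase_of_mem (Finset.mem_univ _), Finset.card_univ,
        nsmul_eq_mul, Nat.card_eq_fintype_card, Nat.cast_sub Fintype.card_pos]
      push_cast; rfl
    have hz' : ∑ x : N, θ x = (Nat.card N : ℂ) * z := by
      rw [← hz]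
      simp [classInner, trivialChar, Nat.card_pos.ne']
    refine ⟨(N.index : ℤ) * ((Nat.card N : ℤ) * z - z₁), ((Nat.card N : ℤ) - 1) * (degree η : ℤ),
      mul_ne_zero ?_ (Int.natCast_ne_zero.2 (degree_pos η).ne'), ?_⟩
    · have : 1 < Nat.card N := Finite.one_lt_card_iff_nontrivial.2
        ⟨⟨⟨k₀, hk₀⟩, 1, fun e => hk₀1 (congrArg Subtype.val e)⟩⟩
      omega
    · rw [hsum, hz₁] at hz'
      push_cast at hz' ⊢
      rw [← apply_one_eq_degree, hm]
      field_simp
      linear_combination hz'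
  obtain ⟨z, hz⟩ := exists_int_of_isIntegral_mul hint hd hcd
  refine ⟨z, fun x hx k hk hk1 => ?_⟩
  have hx' := (mem_S_iff hS ⟨x, (hS ▸ hx).1⟩).1 hx
  rw [← hz]
  exact (ha _ hx' k hk hk1).trans (ham _ hx')

end Cfsg.Agent.TIKernel
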