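import Cfsg.Agent.Lib.TIKernel.Basic
import Cfsg.Agent.Lib.TIKernel.Coherent
import Cfsg.Agent.Lib.OddOrder.SelfCentralizing
import Cfsg.Agent.Lib.CharInt.Constituents
import Cfsg.Agent.Lib.CharInt.TI
import Cfsg.Prelude.Def_Transfer
import Cfsg.Agent.S0198

/-!
# Exceptional characters of an abelian TI subgroup with Frobenius normalizer
-/

set_option linter.unusedSectionVars false
set_option linter.style.haveILetI false

namespace Cfsg.Agent.TIKernel

open scoped ComplexConjugate
open Cfsg Cfsg.Agent.Char Cfsg.Agent.OddOrder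

universe u

section Normal

variable {L : Type u} [Group L] [Fintype L] {N : Subgroup L} [hNn : N.Normal]

theorem degree_eq_index (hA : IsSelfCent N) (χ : IrrCharacter L) (h : χ ∈ nonTriv N) :
    χ.1 1 = (N.index : ℂ) := by
  classical
  haveI : Fintype N := Fintype.ofFinite N
  haveI : Fintype (Subgroup.normalizer (N : Set L)) := Fintype.ofFinite _
  have htop : Subgroup.normalizer (N : Set L) = ⊤ := by
    simpa using Subgroup.normalizer_eq_top_iff.2 hNn
  obtain ⟨lam, hlam⟩ := CharInt.exists_constituent_res N χ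
  have hne : lam ≠ trivialChar N := by
    rintro rfl
    apply hlam
    simp only [classInner, trivialChar_apply, map_one, mul_one, sum_eq_zero χ h, mul_zero]
  have hlam1 : lam.1 1 = 1 := apply_one_of_comm (fun a b => Subtype.ext (hA.comm a.2 b.2)) lam
  have hone : orbSum N lam.1 1 = indFun N lam.1 ((1 : N) : L) := by
    rw [OneMemClass.coe_one, indFun_apply_one]
    simp only [orbSum, Pi.smul_apply, Finset.sum_apply, twist, map_one, Finset.sum_const,
      Finset.card_univ, nsmul_eq_mul, smul_eq_mul, ← Nat.card_eq_fintype_card]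
    rw [htop, Subgroup.card_top, ← Subgroup.card_mul_index N, Nat.cast_mul, ← mul_assoc,
      ← mul_assoc, inv_mul_cancel₀ (Nat.cast_ne_zero.2 Nat.card_pos.ne'), one_mul]
  have hirr : IsIrrCharacter L (indFun N lam.1) := by
    refine isIrrCharacter_iff.2 ⟨isCharacter_indFun N (irr_isCharacter lam), ?_⟩
    rw [classInner_indFun N _ (isClassFunction_indFun N _),
      show (fun x : N => indFun N lam.1 x) = orbSum N lam.1 from funext fun x => by
        by_cases hx : x = 1
        · rw [hx, hone]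
        · exact indFun_apply_ne_one hA lam.1 hx,
      classInner_orbSum hA hne, if_pos ⟨1, twist_one N _⟩]
  obtain ⟨ψ, hψ, he⟩ := CharInt.exists_indFun_eq_add (irr_isCharacter lam) hlam
  have h2 := congrFun he 1
  rw [Pi.add_apply] at h2
  rcases CharInt.eq_zero_or_eq_zero_of_irr_eq_add (χ := indFun N lam.1) hirr
    (irr_isCharacter χ) hψ he with h0 | h0
  · exact absurd (by rw [h0]; rfl) (IsIrrCharacter.apply_one_ne_zero χ.2)
  · rw [h0, Pi.zero_apply, add_zero] at h2
    rw [← h2, indFun_apply_one, hlam1, mul_one]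

theorem card_nonTriv_mul (hA : IsSelfCent N) :
    (nonTriv N).card * N.index + 1 = Nat.card N := by
  classical
  have h1 := sum_degree_sq (G := L)
  rw [← Finset.sum_filter_add_sum_filter_not Finset.univ
    (fun χ : IrrCharacter L => TrivOn N χ.1)] at h1
  have h2 := sum_trivOn_degree_sq N
  simp only [charDegree_eq_degree] at h2
  rw [h2, ← nonTriv, Finset.sum_congr rfl (g := fun _ => N.index ^ 2) fun χ hχ => by
    have := degree_eq_index hA χ hχ
    rw [apply_one_eq_degree, Nat.cast_inj] at this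
    rw [this], Finset.sum_const, smul_eq_mul, ← Subgroup.card_mul_index N] at h1
  refine Nat.eq_of_mul_eq_mul_right (Nat.pos_of_ne_zero (Subgroup.index_ne_zero_of_finite (H := N))) ?_
  rw [← h1]; ring

theorem elementaryAbelian_of_card_eq (hA : IsSelfCent N) (hcard : Nat.card N = N.index + 1) :
    ∃ p : ℕ, p.Prime ∧ IsElementaryAbelian p N := by
  classical
  have hidx : N.index ≠ 0 := Subgroup.index_ne_zero_of_finite
  obtain ⟨p, hp, hpdvd⟩ := Nat.exists_prime_and_dvd (n := Nat.card N) (by omega)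
  haveI := Fact.mk hp
  obtain ⟨x, hx⟩ := exists_prime_orderOf_dvd_card' (G := N) p hpdvd
  have hx1 : (x : L) ≠ 1 := fun h => hp.one_lt.ne' (by
    rw [← hx, ← Subgroup.orderOf_coe, h, orderOf_one])
  refine ⟨p, hp, ⟨⟨fun a b => Subtype.ext (hA.comm a.2 b.2)⟩⟩, fun a ha => ?_⟩
  by_cases ha1 : a = 1
  · rw [ha1, one_pow]
  have hconj : IsConj (x : L) a := by
    have hset : {y : L | IsConj (x : L) y} = (N : Set L) \ {1} := by
      refine Set.eq_of_subset_of_ncard_le ?_ ?_ (Set.toFinite _)
      · intro y hy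
        obtain ⟨c, rfl⟩ := isConj_iff.1 hy
        exact ⟨hNn.conj_mem _ x.2 c, fun h => hx1 (conj_eq_one_iff.1 h)⟩
      · rw [Set.ncard_diff_singleton_of_mem (one_mem N),
          show (N : Set L).ncard = Nat.card N from (Nat.card_coe_set_eq _).symm, hcard,
          ← Nat.card_coe_set_eq]
        show N.index + 1 - 1 ≤ Nat.card {y : L // IsConj (x : L) y}
        rw [CharInt.natCard_isConj, hA x x.2 hx1]
        omega
    show a ∈ {y : L | IsConj (x : L) y}
    rw [hset]; exact ⟨ha, ha1⟩
  obtain ⟨c, hc⟩ := isConj_iff.1 hconj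
  rw [← hc, conj_pow, ← Subgroup.coe_pow, ← hx, pow_orderOf_eq_one, Subgroup.coe_one, mul_one,
    mul_inv_cancel]

end Normal

/-- Brauer–Suzuki: the exceptional characters of an abelian TI subgroup with Frobenius
normalizer. -/
theorem abelian_exceptional {G : Type u} [Group G] [Fintype G] (K : Subgroup G)
    [Fintype (Subgroup.normalizer (K : Set G))]
    (hTI : ∀ g : G, g ∉ Subgroup.normalizer (K : Set G) → ∀ k ∈ K, g * k * g⁻¹ ∈ K → k = 1)
    (hC : ∀ k ∈ K, k ≠ 1 → Subgroup.centralizer ({k} : Set G) ≤ K)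
    (hab : ∀ a ∈ K, ∀ b ∈ K, a * b = b * a) :
    (Nat.card {χ : IrrCharacter (Subgroup.normalizer (K : Set G)) //
        ∃ k : Subgroup.normalizer (K : Set G), (k : G) ∈ K ∧ χ.1 k ≠ χ.1 1} = 1 ∧
      ∃ p : ℕ, p.Prime ∧ IsElementaryAbelian p K ∧
        Nat.card K = (K.subgroupOf (Subgroup.normalizer (K : Set G))).index + 1) ∨
    ∃ (ε : ℂ) (f : {χ : IrrCharacter (Subgroup.normalizer (K : Set G)) //
        ∃ k : Subgroup.normalizer (K : Set G), (k : G) ∈ K ∧ χ.1 k ≠ χ.1 1} → IrrCharacter G),
      (ε = 1 ∨ ε = -1) ∧ Function.Injective f ∧ ∀ χ ξ,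
        indFun (Subgroup.normalizer (K : Set G)) (χ.1.1 - ξ.1.1) =
          ε • ((f χ).1 - (f ξ).1) := by
  classical
  set NK := Subgroup.normalizer (K : Set G) with hNK
  set A := K.subgroupOf NK with hAdef
  have hA : IsSelfCent A := by
    intro y hy hy1
    refine le_antisymm (fun z hz => cent_le hC y hy hy1 z
      (Subgroup.mem_centralizer_singleton_iff.1 hz)) fun z hz => ?_
    exact Subgroup.mem_centralizer_singleton_iff.2 (Subtype.ext (hab _ hz _ hy))
  have hcardA : Nat.card A = Nat.card K :=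
    Nat.card_congr (Subgroup.subgroupOfEquivOfLe Subgroup.le_normalizer).toEquiv
  have hrel : ∀ χ : IrrCharacter NK,
      (∃ k : NK, (k : G) ∈ K ∧ χ.1 k ≠ χ.1 1) ↔ χ ∈ nonTriv A := fun χ => by
    rw [mem_nonTriv]
    simp [TrivOn, hAdef, Subgroup.mem_subgroupOf]
  have hcount : Nat.card {χ : IrrCharacter NK // ∃ k : NK, (k : G) ∈ K ∧ χ.1 k ≠ χ.1 1} =
      (nonTriv A).card := by
    rw [Nat.card_congr (Equiv.subtypeEquivRight hrel), Nat.card_eq_fintype_card,
      Fintype.card_coe]
  have hsum := card_nonTriv_mul hA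
  by_cases hs1 : (nonTriv A).card = 1
  · left
    rw [hs1, one_mul] at hsum
    refine ⟨hcount.trans hs1, ?_⟩
    obtain ⟨p, hp, -, hpe⟩ := elementaryAbelian_of_card_eq hA hsum.symm
    refine ⟨p, hp, ⟨⟨⟨fun a b => Subtype.ext (hab a a.2 b b.2)⟩⟩, fun a ha => ?_⟩,
      hcardA.symm.trans hsum.symm⟩
    have := hpe ⟨a, Subgroup.le_normalizer ha⟩ ha
    simpa using congrArg Subtype.val this
  · right
    set R := {χ : IrrCharacter NK // ∃ k : NK, (k : G) ∈ K ∧ χ.1 k ≠ χ.1 1} with hR
    let eR : Fin (Nat.card R) ≃ R := (Finite.equivFin R).symm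
    rcases isEmpty_or_nonempty R with hempty | ⟨⟨r₀⟩⟩
    · exact ⟨1, isEmptyElim, Or.inl rfl, fun a => isEmptyElim a, fun a => isEmptyElim a⟩
    let i₀ := eR.symm r₀
    let D : Fin (Nat.card R) → NK → ℂ := fun i => (eR i).1.1 - (eR i₀).1.1
    let S : Set G := {g | g ∈ K ∧ g ≠ 1}
    have hdeg : ∀ i, (eR i).1.1 1 = (A.index : ℂ) := fun i =>
      degree_eq_index hA _ ((hrel _).1 (eR i).2)
    have hDcf : ∀ i, IsClassFunction NK (D i) := fun i =>
      IsGeneralizedCharacter.isClassFunction
        (IsGeneralizedCharacter.sub (irr_isGeneralized _) (irr_isGeneralized _))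
    have hDS : ∀ i, ∀ x : NK, (x : G) ∉ S → D i x = 0 := by
      intro i x hx
      by_cases hxK : (x : G) ∈ K
      · have hx1 : x = 1 := by
          by_contra h
          exact hx ⟨hxK, fun e => h (Subtype.ext e)⟩
        simp [D, hx1, hdeg]
      · simp [D, vanish (cent_le hC) _ ((hrel _).1 (eR i).2) (x := x) hxK,
          vanish (cent_le hC) _ ((hrel _).1 (eR i₀).2) (x := x) hxK]
    have hti : ∀ g : G, ∀ s ∈ S, g⁻¹ * s * g ∈ S → g ∈ NK := by
      intro g s hs hgs
      by_contra hg
      exact hs.2 (hTI g⁻¹ (fun h => hg (by simpa using inv_mem h)) s hs.1 (by simpa using hgs.1))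
    obtain ⟨ε, hε, μ, hμ, hμi, hτ⟩ := Cfsg.Agent.S0198.result (Nat.card R) i₀
      (fun i => indFun NK (D i))
      (by simp [D, indFun_zero])
      (fun i => isGeneralizedCharacter_indFun NK
        (IsGeneralizedCharacter.sub (irr_isGeneralized _) (irr_isGeneralized _)))
      (fun i => by rw [indFun_apply_one, hDS i 1 (fun h => h.2 (by simp)), mul_zero])
      (fun i j hi hj => by
        rw [CharInt.classInner_indFun_ti hti (hDS i) (hDcf j) (hDS j)]
        simp only [D, classInner_sub_left, classInner_sub_right, classInner_irr]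
        have hinj : ∀ a b, ((eR a).1 = (eR b).1) = (a = b) := fun a b => by
          rw [← Subtype.ext_iff, eR.injective.eq_iff]
        simp only [hinj, if_neg hi, if_neg (Ne.symm hj), if_true]
        split_ifs <;> norm_num)
    refine ⟨ε, fun r => ⟨μ (eR.symm r), hμ _⟩, hε,
      fun a b h => eR.symm.injective (hμi (congrArg Subtype.val h)), fun χ ξ => ?_⟩
    have h1 : χ.1.1 - ξ.1.1 = D (eR.symm χ) - D (eR.symm ξ) := by
      simp only [D, Equiv.apply_symm_apply]; abel
    rw [h1, indFun_sub, hτ, hτ, ← smul_sub]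
    congr 1
    abel

end Cfsg.Agent.TIKernel
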