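import Cfsg.Agent.Lib.Char.KernelSum
import Cfsg.Agent.Lib.Char.Induction

/-!
# Characters of a group with a normal subgroup containing the centralisers of its non-trivial elements

`N` is normal in `L` and every element centralising a non-trivial element of `N` lies in `N`
(so `N` is a Frobenius kernel or trivial or everything).  The irreducible characters not trivial on `N` vanish
outside `N`, and class functions orthogonal to their degree zero combinations are constant on `N - 1`.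
-/

namespace Cfsg.Agent.TIKernel

open scoped ComplexConjugate
open Cfsg Cfsg.Agent.Char

universe u

variable {L : Type u} [Group L] [Fintype L] {N : Subgroup L} [N.Normal]

open scoped Classical in
/-- The irreducible characters that are not trivial on `N`. -/
noncomputable def nonTriv (N : Subgroup L) : Finset (IrrCharacter L) :=
  Finset.univ.filter fun χ => ¬ TrivOn N χ.1

theorem mem_nonTriv {χ : IrrCharacter L} : χ ∈ nonTriv N ↔ ¬ TrivOn N χ.1 := by
  classical
  simp [nonTriv]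

theorem sum_eq_zero (χ : IrrCharacter L) (h : χ ∈ nonTriv N) [Fintype N] : ∑ k : N, χ.1 k = 0 := by
  have := sum_coset_eq_zero_of_not_trivOn N χ (mem_nonTriv.1 h) 1
  simpa using this

theorem vanish (hN : ∀ k ∈ N, k ≠ 1 → ∀ x, x * k = k * x → x ∈ N) (χ : IrrCharacter L)
    (h : χ ∈ nonTriv N) {x : L} (hx : x ∉ N) : χ.1 x = 0 := by
  classical
  let f : N → N := fun c =>
    ⟨x⁻¹ * c * x * (c : L)⁻¹, N.mul_mem (by simpa using (inferInstance : N.Normal).conj_mem c c.2 x⁻¹) (N.inv_mem c.2)⟩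
  have hf : Function.Injective f := by
    intro c d e
    have e' : x⁻¹ * (c : L) * x * (c : L)⁻¹ = x⁻¹ * d * x * (d : L)⁻¹ := congrArg Subtype.val e
    by_contra hne
    apply hx
    refine hN ((d : L)⁻¹ * c) (N.mul_mem (N.inv_mem d.2) c.2) (fun h1 => hne (Subtype.ext ?_)) x ?_
    · exact (inv_mul_eq_one.1 h1).symm
    · have e2 := congrArg (fun z => (d : L)⁻¹ * (x * z) * c) e'
      simp [mul_assoc] at e2
      simpa [mul_assoc] using e2.symm
  have hsurj := Finite.surjective_of_injective hf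
  have hval : ∀ k : N, χ.1 (x * k) = χ.1 x := by
    intro k
    obtain ⟨c, rfl⟩ := hsurj k
    show χ.1 (x * (x⁻¹ * c * x * (c : L)⁻¹)) = _
    rw [show x * (x⁻¹ * (c : L) * x * (c : L)⁻¹) = c * x * (c : L)⁻¹ by group]
    exact IsCharacter.isClassFunction (irr_isCharacter χ) x c
  have := sum_coset_eq_zero_of_not_trivOn N χ (mem_nonTriv.1 h) x
  simp only [hval, Finset.sum_const, Finset.card_univ, nsmul_eq_mul, mul_eq_zero, Nat.cast_eq_zero,
    Fintype.card_ne_zero, false_or] at this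
  exact this

theorem sum_degree_mul {k : L} (hk : k ∈ N) (hk1 : k ≠ 1) :
    ∑ χ ∈ nonTriv N, χ.1 1 * χ.1 k = -(N.index : ℂ) := by
  classical
  have h0 : ∑ χ : IrrCharacter L, χ.1 k * conj (χ.1 1) = 0 := by
    rw [sum_irr_mul_conj, if_neg]
    exact fun h => hk1 (isConj_one_left.1 h)
  have hc : ∀ χ : IrrCharacter L, conj (χ.1 1) = χ.1 1 := fun χ => by
    rw [apply_one_eq_degree, Complex.conj_natCast]
  simp only [hc] at h0
  have h1 : ∑ χ ∈ Finset.univ.filter (fun χ : IrrCharacter L => TrivOn N χ.1), χ.1 k * χ.1 1 =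
      (N.index : ℂ) := by
    rw [← sum_trivOn_degree_sq N, Nat.cast_sum]
    refine Finset.sum_congr rfl fun χ hχ => ?_
    rw [(Finset.mem_filter.1 hχ).2 k hk, Nat.cast_pow, charDegree_cast, sq]
  rw [← Finset.sum_filter_add_sum_filter_not _ (fun χ : IrrCharacter L => TrivOn N χ.1), h1] at h0
  rw [Finset.sum_congr (s₁ := nonTriv N) rfl fun χ _ => mul_comm (χ.1 1) (χ.1 k), nonTriv]
  linear_combination h0

/-- A class function orthogonal to all degree zero combinations of two members of `nonTriv N` is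
constant on `N - 1`. -/
theorem exists_const {f : L → ℂ} (hf : IsClassFunction L f)
    (h : ∀ χ ∈ nonTriv N, ∀ ξ ∈ nonTriv N,
      classInner f χ.1 * ξ.1 1 = classInner f ξ.1 * χ.1 1) :
    ∃ a : ℂ, ∀ k ∈ N, k ≠ 1 → f k = a := by
  classical
  obtain ⟨t, ht⟩ : ∃ t : ℂ, ∀ χ ∈ nonTriv N, classInner f χ.1 = t * χ.1 1 := by
    rcases (nonTriv N).eq_empty_or_nonempty with he | ⟨ξ, hξ⟩
    · exact ⟨0, by simp [he]⟩
    · refine ⟨classInner f ξ.1 / ξ.1 1, fun χ hχ => ?_⟩
      rw [div_mul_eq_mul_div, eq_div_iff (IsIrrCharacter.apply_one_ne_zero ξ.2)]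
      exact h χ hχ ξ hξ
  refine ⟨(∑ χ ∈ Finset.univ.filter (fun χ : IrrCharacter L => TrivOn N χ.1), classInner f χ.1 * χ.1 1)
    - t * N.index, fun k hk hk1 => ?_⟩
  conv_lhs => rw [eq_sum_classInner_smul hf]
  simp only [Finset.sum_apply, Pi.smul_apply, smul_eq_mul]
  rw [← Finset.sum_filter_add_sum_filter_not _ (fun χ : IrrCharacter L => TrivOn N χ.1),
    sub_eq_add_neg]
  congr 1
  · exact Finset.sum_congr rfl fun χ hχ => by rw [(Finset.mem_filter.1 hχ).2 k hk]
  · rw [← mul_neg, ← sum_degree_mul hk hk1, Finset.mul_sum]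
    exact Finset.sum_congr rfl fun χ hχ => by rw [ht χ hχ, mul_assoc]

/-- With two distinct members, no member of `nonTriv N` is constant on `N - 1`. -/
theorem not_const (hN : ∀ k ∈ N, k ≠ 1 → ∀ x, x * k = k * x → x ∈ N) {χ ξ : IrrCharacter L}
    (hχ : χ ∈ nonTriv N) (hξ : ξ ∈ nonTriv N) (hne : χ ≠ ξ) :
    ∃ a ∈ N, ∃ b ∈ N, a ≠ 1 ∧ b ≠ 1 ∧ χ.1 a ≠ χ.1 b := by
  classical
  by_contra hcon
  push Not at hcon
  obtain ⟨k₀, hk₀, hk₀1⟩ : ∃ k ∈ N, k ≠ 1 := by
    by_contra h
    push Not at h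
    exact mem_nonTriv.1 hχ fun k hk => by rw [h k hk]
  have h0 := classInner_eq_zero_of_ne (ne_comm.1 hne)
  rw [classInner, mul_eq_zero] at h0
  have h1 : ∑ g : L, ξ.1 g * conj (χ.1 g) = 0 :=
    h0.resolve_left (inv_ne_zero (Nat.cast_ne_zero.2 Nat.card_pos.ne'))
  have h2 : ∀ g : L, ξ.1 g * conj (χ.1 g) = (if g ∈ N then ξ.1 g else 0) * conj (χ.1 k₀) +
      if g = 1 then ξ.1 1 * (conj (χ.1 1) - conj (χ.1 k₀)) else 0 := by
    intro g
    by_cases hg : g ∈ N
    · by_cases hg1 : g = 1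
      · subst hg1; simp only [hg, if_true]; ring
      · rw [if_pos hg, if_neg hg1, add_zero, hcon g hg k₀ hk₀ hg1 hk₀1]
    · rw [vanish hN ξ hξ hg, if_neg hg, if_neg (fun e : g = 1 => hg (e ▸ N.one_mem))]; simp
  rw [Finset.sum_congr rfl fun g _ => h2 g, Finset.sum_add_distrib, ← Finset.sum_mul,
    Finset.sum_ite_eq' Finset.univ (1 : L), if_pos (Finset.mem_univ _), ← Finset.sum_filter] at h1
  have h3 : ∑ g ∈ Finset.univ.filter (· ∈ N), ξ.1 g = 0 := by
    rw [← Finset.sum_subtype_eq_sum_filter]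
    simpa using sum_eq_zero ξ hξ
  rw [h3, zero_mul, zero_add, mul_eq_zero] at h1
  have h4 : χ.1 k₀ = χ.1 1 :=
    ((starRingEnd ℂ).injective (sub_eq_zero.1 (h1.resolve_left (IsIrrCharacter.apply_one_ne_zero ξ.2)))).symm
  refine mem_nonTriv.1 hχ fun k hk => ?_
  by_cases hk1 : k = 1
  · rw [hk1]
  · rw [hcon k hk k₀ hk₀ hk1 hk₀1, h4]

end Cfsg.Agent.TIKernel
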